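import Cfsg.Agent.H634.Par.Order
import Cfsg.Agent.H690.KS.Lat

/-!
# The parity of `∑ N x * m x ^ 2`
-/

set_option autoImplicit false
set_option linter.unusedSectionVars false

namespace Cfsg.Agent.H634.Par


section unit

variable {K : Type*} [Field K] {O : Subring K} {π : K}

theorem zpow_unit (hπ : π ∈ O) (hπ' : π⁻¹ ∉ O) {n : ℤ} {u : K} (hu : u ∈ O) (hu' : u⁻¹ ∈ O) (hu0 : u ≠ 0)
    (h1 : π ^ n * u ∈ O) (h2 : (π ^ n * u)⁻¹ ∈ O) : n = 0 := by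
  have hπ0 : π ≠ 0 := fun h => hπ' (by rw [h, inv_zero]; exact O.zero_mem)
  have h3 : π ^ n ∈ O := by
    have := O.mul_mem h1 hu'
    rwa [mul_assoc, mul_inv_cancel₀ hu0, mul_one] at this
  have h4 : π ^ (-n) ∈ O := by
    have := O.mul_mem h2 hu
    rwa [mul_inv, mul_assoc, inv_mul_cancel₀ hu0, mul_one, ← zpow_neg] at this
  have key : ∀ k : ℕ, π ^ (-((k : ℤ) + 1)) ∉ O := by
    intro k hk
    apply hπ'
    have h5 := O.mul_mem hk (pow_mem hπ k)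
    rw [← zpow_natCast, ← zpow_add₀ hπ0] at h5
    have h6 : -((k : ℤ) + 1) + k = -1 := by ring
    rwa [h6, zpow_neg_one] at h5
  rcases lt_trichotomy n 0 with h | h | h
  · exfalso
    obtain ⟨k, hk⟩ : ∃ k : ℕ, n = -((k : ℤ) + 1) := ⟨(-n - 1).toNat, by omega⟩
    exact key k (hk ▸ h3)
  · exact h
  · exfalso
    obtain ⟨k, hk⟩ : ∃ k : ℕ, -n = -((k : ℤ) + 1) := ⟨(n - 1).toNat, by omega⟩
    exact key k (hk ▸ h4)

end unit

variable {K : Type*} [Field K] {G : Type*} [Group G] [Fintype G] {X : Type*} [Fintype X] [DecidableEq X]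

theorem even_of_det {O : Subring K} {π : K} (hπ : π ∈ O) (hπ' : π⁻¹ ∉ O)
    (hfac : ∀ z : K, z ≠ 0 → ∃ (n : ℤ) (u : K), u ∈ O ∧ u⁻¹ ∈ O ∧ z = π ^ n * u)
    (D : Dat K G X) (N : X → ℕ) (hN : ∀ x, ∃ w : K, w ∈ O ∧ w⁻¹ ∈ O ∧ D.c x * π ^ N x = w)
    (hd : ∃ d : K, d ≠ 0 ∧ d ^ 2 * (gram D.m D.c).det ∈ O ∧ (d ^ 2 * (gram D.m D.c).det)⁻¹ ∈ O) :
    Even (∑ x, N x * D.m x ^ 2) := by
  have hπ0 : π ≠ 0 := fun h => hπ' (by rw [h, inv_zero]; exact O.zero_mem)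
  obtain ⟨d, hd0, h1, h2⟩ := hd
  obtain ⟨n, u, hu, hu', rfl⟩ := hfac d hd0
  have hu0 : u ≠ 0 := fun h => hd0 (by rw [h, mul_zero])
  choose w hw hw' hcw using hN
  have hw0 : ∀ x, w x ≠ 0 := fun x => by
    rw [← hcw]
    exact mul_ne_zero (D.c_ne x) (pow_ne_zero _ hπ0)
  have hprod : ∏ x, D.c x ^ (D.m x ^ 2) = π ^ (-((∑ x, N x * D.m x ^ 2 : ℕ) : ℤ)) * ∏ x, w x ^ (D.m x ^ 2) := by
    have h3 : ∀ x, D.c x = w x * (π ^ N x)⁻¹ := fun x => by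
      rw [← hcw, mul_assoc, mul_inv_cancel₀ (pow_ne_zero _ hπ0), mul_one]
    rw [zpow_neg, zpow_natCast, ← Finset.prod_pow_eq_pow_sum, ← Finset.prod_inv_distrib, mul_comm,
      ← Finset.prod_mul_distrib]
    refine Finset.prod_congr rfl fun x _ => ?_
    rw [h3, mul_pow, inv_pow, ← pow_mul]
  have hW : ∏ x, w x ^ (D.m x ^ 2) ∈ O := O.prod_mem fun x _ => pow_mem (hw x) _
  have hW' : (∏ x, w x ^ (D.m x ^ 2))⁻¹ ∈ O := by
    rw [← Finset.prod_inv_distrib]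
    exact O.prod_mem fun x _ => by
      rw [← inv_pow]
      exact pow_mem (hw' x) _
  have hW0 : ∏ x, w x ^ (D.m x ^ 2) ≠ 0 := Finset.prod_ne_zero_iff.2 fun x _ => pow_ne_zero _ (hw0 x)
  have key : ∀ s : K, s ∈ O → s⁻¹ ∈ O → s ≠ 0 →
      (π ^ n * u) ^ 2 * (s * ∏ x, D.c x ^ (D.m x ^ 2)) ∈ O →
      ((π ^ n * u) ^ 2 * (s * ∏ x, D.c x ^ (D.m x ^ 2)))⁻¹ ∈ O → Even (∑ x, N x * D.m x ^ 2) := by
    intro s hs hs' hs0 h4 h5
    have h6 : (π ^ n * u) ^ 2 * (s * ∏ x, D.c x ^ (D.m x ^ 2)) =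
        π ^ (2 * n - ((∑ x, N x * D.m x ^ 2 : ℕ) : ℤ)) * (u ^ 2 * (s * ∏ x, w x ^ (D.m x ^ 2))) := by
      rw [hprod, sub_eq_add_neg, zpow_add₀ hπ0, two_mul, zpow_add₀ hπ0]
      ring
    rw [h6] at h4 h5
    have h7 := zpow_unit hπ hπ' (O.mul_mem (pow_mem hu 2) (O.mul_mem hs hW))
      (by
        rw [mul_inv, mul_inv, ← inv_pow]
        exact O.mul_mem (pow_mem hu' 2) (O.mul_mem hs' hW'))
      (mul_ne_zero (pow_ne_zero _ hu0) (mul_ne_zero hs0 hW0)) h4 h5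
    have h8 : ((∑ x, N x * D.m x ^ 2 : ℕ) : ℤ) = 2 * n := by linarith
    have h9 : Even ((∑ x, N x * D.m x ^ 2 : ℕ) : ℤ) := by rw [h8]; exact even_two_mul n
    exact_mod_cast h9
  rcases det_gram D.m D.c with h | h
  · rw [h] at h1 h2
    exact key 1 O.one_mem (by rw [inv_one]; exact O.one_mem) one_ne_zero (by rwa [one_mul]) (by rwa [one_mul])
  · rw [h] at h1 h2
    refine key (-1) (O.neg_mem O.one_mem) (by rw [inv_neg, inv_one]; exact O.neg_mem O.one_mem)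
      (neg_ne_zero.2 one_ne_zero) (by rwa [neg_one_mul]) (by rwa [neg_one_mul])

/-- **The parity of the exponents.** -/
theorem even_sum {O : Subring K} {π : K} (hπ : π ∈ O) (hπ' : π⁻¹ ∉ O)
    (hfac : ∀ z : K, z ≠ 0 → ∃ (n : ℤ) (u : K), u ∈ O ∧ u⁻¹ ∈ O ∧ z = π ^ n * u)
    (D : Dat K G X) (hi : ∀ g, D.i g ∈ O) (hO : ∀ g, ∑ x, D.c x * (D.R x g).trace ∈ O)
    (N : X → ℕ) (hN : ∀ x, ∃ w : K, w ∈ O ∧ w⁻¹ ∈ O ∧ D.c x * π ^ N x = w) :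
    Even (∑ x, N x * D.m x ^ 2) :=
  even_of_det hπ hπ' hfac D N hN (Cfsg.Agent.H690.KS.exists_sq hπ hπ' hfac _ D.det_ne D.phi
    (fun g h => D.T_phi_mem hi hO g h) (fun _ h => D.mem_span h) D.span_top)

end Cfsg.Agent.H634.Par
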