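import Mathlib

/-!
# The order `i O G i` (projected to a block) is self-dual

Abstract part of the parity lemma for `2`-blocks with unramified characters.
-/

set_option autoImplicit false
set_option linter.unusedSectionVars false

namespace Cfsg.Agent.H634.Par

open Matrix

/-- Absolutely irreducible matrix representations over `K` together with a factorization of an idempotent. -/
structure Dat (K : Type*) [Field K] (G : Type*) [Group G] [Fintype G] (X : Type*) [Fintype X] where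
  n : X → ℕ
  m : X → ℕ
  R : ∀ x, G →* Matrix (Fin (n x)) (Fin (n x)) K
  P : ∀ x, Matrix (Fin (m x)) (Fin (n x)) K
  Q : ∀ x, Matrix (Fin (n x)) (Fin (m x)) K
  i : G → K
  PQ : ∀ x, P x * Q x = 1
  QP : ∀ x, Q x * P x = ∑ g, i g • R x g
  G0 : (Fintype.card G : K) ≠ 0
  n0 : ∀ x, (n x : K) ≠ 0
  sch : ∀ x a b c d, ∑ g, R x g⁻¹ a b * R x g c d = if a = d ∧ b = c then (Fintype.card G : K) / n x else 0
  sch' : ∀ x y, x ≠ y → ∀ a b c d, ∑ g, R x g⁻¹ a b * R y g c d = 0

variable {K : Type*} [Field K] {G : Type*} [Group G] [Fintype G] {X : Type*} [Fintype X] [DecidableEq X]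

/-- The index set of the matrix units. -/
abbrev Ix (m : X → ℕ) : Type _ := Σ x : X, Fin (m x) × Fin (m x)

/-- Transposition of the indices. -/
def sw (m : X → ℕ) : Equiv.Perm (Ix m) where
  toFun a := ⟨a.1, (a.2.2, a.2.1)⟩
  invFun a := ⟨a.1, (a.2.2, a.2.1)⟩
  left_inv _ := rfl
  right_inv _ := rfl

theorem sw_sw (m : X → ℕ) (a : Ix m) : sw m (sw m a) = a := rfl

/-- The Gram matrix of the form `∑ c x * tr (a x * b x)`. -/
def gram (m : X → ℕ) (c : X → K) : Matrix (Ix m) (Ix m) K :=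
  Matrix.of fun a b => if b = sw m a then c a.1 else 0

theorem gram_bil (m : X → ℕ) (c : X → K) (u v : Ix m → K) :
    u ⬝ᵥ (gram m c).mulVec v = ∑ a : Ix m, c a.1 * u a * v (sw m a) := by
  classical
  rw [dotProduct]
  refine Finset.sum_congr rfl fun a _ => ?_
  rw [mulVec, dotProduct]
  simp only [gram, Matrix.of_apply, ite_mul, zero_mul, Finset.sum_ite_eq', Finset.mem_univ, if_true]
  ring

theorem det_gram (m : X → ℕ) (c : X → K) : (gram m c).det = ∏ x, c x ^ (m x ^ 2) ∨
    (gram m c).det = - ∏ x, c x ^ (m x ^ 2) := by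
  classical
  have h1 : gram m c = (Matrix.diagonal fun a : Ix m => c a.1).submatrix id (sw m) := by
    ext a b
    rw [gram, Matrix.of_apply, Matrix.submatrix_apply, id, Matrix.diagonal_apply]
    by_cases h : b = sw m a
    · rw [if_pos h, if_pos (by rw [h, sw_sw])]
    · rw [if_neg h, if_neg (fun h' => h (by rw [h', sw_sw]))]
  have h2 : ∏ a : Ix m, c a.1 = ∏ x, c x ^ (m x ^ 2) := by
    rw [Fintype.prod_sigma]
    refine Finset.prod_congr rfl fun x _ => ?_
    show ∏ _y : Fin (m x) × Fin (m x), c x = _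
    rw [Finset.prod_const, Finset.card_univ, Fintype.card_prod, Fintype.card_fin, sq]
  rw [h1, Matrix.det_permute', Matrix.det_diagonal, h2]
  rcases Int.units_eq_one_or (Equiv.Perm.sign (sw m)) with h | h <;> rw [h] <;> simp

namespace Dat

variable (D : Dat K G X)

/-- The scalars of the symmetrizing form. -/
noncomputable def c (x : X) : K := (D.n x : K) / Fintype.card G

/-- The image of a group element in `∏ M_m`. -/
def phi (g : G) : Ix D.m → K := fun a => (D.P a.1 * D.R a.1 g * D.Q a.1) a.2.1 a.2.2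

theorem phi_mk (g : G) (x : X) (i j : Fin (D.m x)) : D.phi g ⟨x, (i, j)⟩ = (D.P x * D.R x g * D.Q x) i j := rfl

/-- The form. -/
noncomputable def T (u v : Ix D.m → K) : K := u ⬝ᵥ (gram D.m D.c).mulVec v

theorem T_eq (u v : Ix D.m → K) :
    D.T u v = ∑ x, ∑ i, ∑ j, D.c x * u ⟨x, (i, j)⟩ * v ⟨x, (j, i)⟩ := by
  rw [T, gram_bil, Fintype.sum_sigma]
  refine Finset.sum_congr rfl fun x _ => ?_
  rw [Fintype.sum_prod_type]
  rfl

theorem T_phi (g h : G) : D.T (D.phi g) (D.phi h) =
    ∑ a, ∑ b, D.i a * D.i b * ∑ x, D.c x * (D.R x (g * a * h * b)).trace := by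
  have h1 : ∀ x, ∑ i, ∑ j, D.phi g ⟨x, (i, j)⟩ * D.phi h ⟨x, (j, i)⟩ =
      ∑ a, ∑ b, D.i a * D.i b * (D.R x (g * a * h * b)).trace := by
    intro x
    have h2 : ∑ i, ∑ j, D.phi g ⟨x, (i, j)⟩ * D.phi h ⟨x, (j, i)⟩ =
        (D.P x * D.R x g * D.Q x * (D.P x * D.R x h * D.Q x)).trace := by
      simp only [Matrix.trace, Matrix.diag_apply, Matrix.mul_apply (M := D.P x * D.R x g * D.Q x), phi_mk]
    rw [h2]
    have h3 : (D.P x * D.R x g * D.Q x * (D.P x * D.R x h * D.Q x)).trace =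
        (D.R x g * (D.Q x * D.P x) * D.R x h * (D.Q x * D.P x)).trace := by
      rw [Matrix.trace_mul_comm]
      have e1 : D.P x * D.R x h * D.Q x * (D.P x * D.R x g * D.Q x) =
          (D.P x * (D.R x h * D.Q x * D.P x * D.R x g * D.Q x)) := by
        simp only [Matrix.mul_assoc]
      rw [e1, Matrix.trace_mul_comm]
      have e2 : D.R x h * D.Q x * D.P x * D.R x g * D.Q x * D.P x =
          (D.R x h * (D.Q x * D.P x)) * (D.R x g * (D.Q x * D.P x)) := by
        simp only [Matrix.mul_assoc]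
      rw [e2, Matrix.trace_mul_comm]
      simp only [Matrix.mul_assoc]
    rw [h3, D.QP]
    simp only [Finset.mul_sum, Finset.sum_mul, Matrix.trace_sum, mul_smul_comm, smul_mul_assoc, Matrix.trace_smul,
      smul_eq_mul, ← map_mul]
    rw [Finset.sum_comm]
    refine Finset.sum_congr rfl fun a _ => Finset.sum_congr rfl fun b _ => ?_
    ring
  rw [T_eq]
  have h4 : ∀ x, ∑ i, ∑ j, D.c x * D.phi g ⟨x, (i, j)⟩ * D.phi h ⟨x, (j, i)⟩ =
      ∑ a, ∑ b, D.i a * D.i b * (D.c x * (D.R x (g * a * h * b)).trace) := by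
    intro x
    have h5 : ∑ i, ∑ j, D.c x * D.phi g ⟨x, (i, j)⟩ * D.phi h ⟨x, (j, i)⟩ =
        D.c x * ∑ i, ∑ j, D.phi g ⟨x, (i, j)⟩ * D.phi h ⟨x, (j, i)⟩ := by
      simp only [Finset.mul_sum, mul_assoc]
    rw [h5, h1]
    simp only [Finset.mul_sum]
    refine Finset.sum_congr rfl fun a _ => Finset.sum_congr rfl fun b _ => ?_
    ring
  rw [Finset.sum_congr rfl fun x _ => h4 x, Finset.sum_comm]
  refine Finset.sum_congr rfl fun a _ => ?_
  rw [Finset.sum_comm]
  refine Finset.sum_congr rfl fun b _ => ?_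
  rw [Finset.mul_sum]

theorem T_phi_mem {O : Subring K} (hi : ∀ g, D.i g ∈ O) (hO : ∀ g, ∑ x, D.c x * (D.R x g).trace ∈ O) (g h : G) :
    D.T (D.phi g) (D.phi h) ∈ O := by
  rw [T_phi]
  exact O.sum_mem fun a _ => O.sum_mem fun b _ => O.mul_mem (O.mul_mem (hi a) (hi b)) (hO _)

/-- The sandwich identity. -/
theorem sandwich' {n m n' m' : ℕ} (P : Matrix (Fin m) (Fin n) K) (Q : Matrix (Fin n) (Fin m) K) (A : Matrix (Fin n) (Fin n) K)
    (P' : Matrix (Fin m') (Fin n') K) (Q' : Matrix (Fin n') (Fin m') K) (B : Matrix (Fin n') (Fin n') K)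
    (j i : Fin m) (k l : Fin m') : (P * A * Q) j i * (P' * B * Q') k l =
      ∑ a, ∑ b, ∑ c, ∑ d, P j a * Q b i * P' k c * Q' d l * (A a b * B c d) := by
  have h1 : ∀ {n m : ℕ} (P : Matrix (Fin m) (Fin n) K) (Q : Matrix (Fin n) (Fin m) K) (A : Matrix (Fin n) (Fin n) K)
      (j i : Fin m), (P * A * Q) j i = ∑ a, ∑ b, P j a * A a b * Q b i := by
    intro n m P Q A j i
    rw [Matrix.mul_apply, Finset.sum_comm]
    refine Finset.sum_congr rfl fun a _ => ?_
    rw [Matrix.mul_apply, Finset.sum_mul]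
  rw [h1, h1, Finset.sum_mul]
  refine Finset.sum_congr rfl fun a _ => ?_
  rw [Finset.sum_mul]
  refine Finset.sum_congr rfl fun b _ => ?_
  rw [Finset.mul_sum]
  refine Finset.sum_congr rfl fun c _ => ?_
  rw [Finset.mul_sum]
  refine Finset.sum_congr rfl fun d _ => ?_
  ring

theorem sum_entries (x : X) (i j k l : Fin (D.m x)) :
    ∑ g, (D.P x * D.R x g⁻¹ * D.Q x) j i * (D.P x * D.R x g * D.Q x) k l =
      if j = l ∧ k = i then (Fintype.card G : K) / D.n x else 0 := by
  simp only [sandwich']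
  rw [Finset.sum_comm]
  have h1 : ∀ a, ∑ g, ∑ b, ∑ c, ∑ d, D.P x j a * D.Q x b i * D.P x k c * D.Q x d l * (D.R x g⁻¹ a b * D.R x g c d) =
      ∑ b, D.P x j a * D.Q x b i * D.P x k b * D.Q x a l * ((Fintype.card G : K) / D.n x) := by
    intro a
    rw [Finset.sum_comm]
    refine Finset.sum_congr rfl fun b _ => ?_
    rw [Finset.sum_comm]
    have h2 : ∀ c, ∑ g, ∑ d, D.P x j a * D.Q x b i * D.P x k c * D.Q x d l * (D.R x g⁻¹ a b * D.R x g c d) =
        if b = c then D.P x j a * D.Q x b i * D.P x k b * D.Q x a l * ((Fintype.card G : K) / D.n x) else 0 := by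
      intro c
      rw [Finset.sum_comm]
      have h3 : ∀ d, ∑ g, D.P x j a * D.Q x b i * D.P x k c * D.Q x d l * (D.R x g⁻¹ a b * D.R x g c d) =
          if a = d then (if b = c then D.P x j a * D.Q x b i * D.P x k b * D.Q x a l *
            ((Fintype.card G : K) / D.n x) else 0) else 0 := by
        intro d
        rw [← Finset.mul_sum, D.sch]
        by_cases h4 : a = d
        · by_cases h5 : b = c
          · subst h4 h5
            simp
          · rw [if_neg (fun h => h5 h.2), if_pos h4, if_neg h5, mul_zero]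
        · rw [if_neg (fun h => h4 h.1), if_neg h4, mul_zero]
      rw [Finset.sum_congr rfl fun d _ => h3 d, Finset.sum_ite_eq, if_pos (Finset.mem_univ _)]
    rw [Finset.sum_congr rfl fun c _ => h2 c, Finset.sum_ite_eq, if_pos (Finset.mem_univ _)]
  rw [Finset.sum_congr rfl fun a _ => h1 a]
  have h6 : ∑ a, ∑ b, D.P x j a * D.Q x b i * D.P x k b * D.Q x a l * ((Fintype.card G : K) / D.n x) =
      (D.P x * D.Q x) j l * (D.P x * D.Q x) k i * ((Fintype.card G : K) / D.n x) := by
    rw [Matrix.mul_apply, Matrix.mul_apply, Finset.sum_mul, Finset.sum_mul]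
    refine Finset.sum_congr rfl fun a _ => ?_
    rw [Finset.mul_sum, Finset.sum_mul]
    refine Finset.sum_congr rfl fun b _ => ?_
    ring
  rw [h6, D.PQ, Matrix.one_apply, Matrix.one_apply]
  by_cases h7 : j = l
  · by_cases h8 : k = i
    · simp [h7, h8]
    · simp [h7, h8]
  · simp [h7]

theorem sum_entries' {x y : X} (hxy : x ≠ y) (i j : Fin (D.m x)) (k l : Fin (D.m y)) :
    ∑ g, (D.P x * D.R x g⁻¹ * D.Q x) j i * (D.P y * D.R y g * D.Q y) k l = 0 := by
  simp only [sandwich']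
  rw [Finset.sum_comm]
  refine Finset.sum_eq_zero fun a _ => ?_
  rw [Finset.sum_comm]
  refine Finset.sum_eq_zero fun b _ => ?_
  rw [Finset.sum_comm]
  refine Finset.sum_eq_zero fun c _ => ?_
  rw [Finset.sum_comm]
  refine Finset.sum_eq_zero fun d _ => ?_
  rw [← Finset.mul_sum, D.sch' x y hxy, mul_zero]

theorem c_mul (x : X) : D.c x * ((Fintype.card G : K) / D.n x) = 1 := by
  have h1 := D.G0
  have h2 := D.n0 x
  rw [c]
  field_simp

/-- **The dual basis identity.** -/
theorem dual (u : Ix D.m → K) : ∑ g, D.T u (D.phi g⁻¹) • D.phi g = u := by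
  funext a
  obtain ⟨y, k, l⟩ := a
  rw [Finset.sum_apply]
  simp only [Pi.smul_apply, smul_eq_mul, T_eq, Finset.sum_mul]
  rw [Finset.sum_comm]
  have h1 : ∀ x, ∑ g, ∑ i, ∑ j, D.c x * u ⟨x, (i, j)⟩ * D.phi g⁻¹ ⟨x, (j, i)⟩ * D.phi g ⟨y, (k, l)⟩ =
      ∑ i, ∑ j, D.c x * u ⟨x, (i, j)⟩ * ∑ g, (D.P x * D.R x g⁻¹ * D.Q x) j i * (D.P y * D.R y g * D.Q y) k l := by
    intro x
    rw [Finset.sum_comm]
    refine Finset.sum_congr rfl fun i _ => ?_
    rw [Finset.sum_comm]
    refine Finset.sum_congr rfl fun j _ => ?_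
    rw [Finset.mul_sum]
    refine Finset.sum_congr rfl fun g _ => ?_
    rw [phi_mk, phi_mk]
    ring
  rw [Finset.sum_congr rfl fun x _ => h1 x, Finset.sum_eq_single y]
  · simp only [sum_entries]
    rw [Finset.sum_eq_single k]
    · rw [Finset.sum_eq_single l]
      · rw [if_pos ⟨rfl, rfl⟩, mul_right_comm, c_mul, one_mul]
      · intro j _ hj
        rw [if_neg fun h => hj h.1, mul_zero]
      · intro h
        exact absurd (Finset.mem_univ _) h
    · intro i _ hi
      refine Finset.sum_eq_zero fun j _ => ?_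
      rw [if_neg fun h => hi h.2.symm, mul_zero]
    · intro h
      exact absurd (Finset.mem_univ _) h
  · intro x _ hx
    refine Finset.sum_eq_zero fun i _ => Finset.sum_eq_zero fun j _ => ?_
    rw [D.sum_entries' hx, mul_zero]
  · intro h
    exact absurd (Finset.mem_univ _) h

/-- Self-duality. -/
theorem mem_span {O : Subring K} {u : Ix D.m → K} (hu : ∀ g, D.T u (D.phi g) ∈ O) :
    u ∈ Submodule.span O (Set.range D.phi) := by
  rw [← D.dual u]
  refine Submodule.sum_mem _ fun g _ => ?_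
  have h1 : D.T u (D.phi g⁻¹) • D.phi g = (⟨D.T u (D.phi g⁻¹), hu _⟩ : O) • D.phi g := rfl
  rw [h1]
  exact Submodule.smul_mem _ _ (Submodule.subset_span ⟨g, rfl⟩)

theorem span_top : Submodule.span K (Set.range D.phi) = ⊤ := by
  rw [eq_top_iff]
  intro u _
  rw [← D.dual u]
  exact Submodule.sum_mem _ fun g _ => Submodule.smul_mem _ _ (Submodule.subset_span ⟨g, rfl⟩)

theorem c_ne (x : X) : D.c x ≠ 0 := by
  intro h
  have := D.c_mul x
  rw [h, zero_mul] at this
  exact one_ne_zero this.symm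

theorem det_ne : (gram D.m D.c).det ≠ 0 := by
  have h : ∏ x, D.c x ^ (D.m x ^ 2) ≠ 0 := Finset.prod_ne_zero_iff.2 fun x _ => pow_ne_zero _ (D.c_ne x)
  rcases det_gram D.m D.c with h1 | h1 <;> rw [h1]
  · exact h
  · exact neg_ne_zero.2 h

end Dat

end Cfsg.Agent.H634.Par
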